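import Cfsg.Agent.H555.RC.Six
import Cfsg.Agent.H957.RC.Fifteen
import Cfsg.Agent.H76.RC.Fifteen

/-!
# S3510: symplectic groups of dimension at least six in characteristic two (helper555)

* `dead_even` : no cover by commuting elements of different prime orders.

The linear algebra of the exceptional case of `Sp₆(2)` (elements of order `15`) is helper957's and helper76's.
-/

set_option autoImplicit false

open Cfsg

namespace Cfsg.Agent.H555.RC

open Module QuadraticMap MulAction Cfsg.Agent.H385.RC Cfsg.Agent.H106.RC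

/-- **Symplectic groups in characteristic two, dimension `≥ 6`.** -/
theorem dead_even {F V G Ω S : Type} [Field F] [Finite F] [AddCommGroup V] [Module F V] [FiniteDimensional F V] [Group G]
    [Finite G] [DistribMulAction G V] {B : LinearMap.BilinForm F V} {N : Subgroup G} (h : Ev B N) [MulAction G Ω]
    [Nonempty Ω] (hE : Env G Ω N) [Group S] [Finite S] (hIH : IH (Nat.card S)) (eS : N ≃* S) {ι : Type} [Finite ι]
    {x : ι → G} {r : ι → ℕ} (hx : PF x r) (hcov : Cov Ω x) (hdim : 6 ≤ finrank F V) : False := by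
  refine dead_even_red h hE hIH eS hx hcov hdim ?_
  intro hF hd6 Q hQ hplus hO hts
  obtain ⟨ω⟩ := ‹Nonempty Ω›
  obtain ⟨i0, -⟩ := hcov ω
  obtain ⟨j0, hj0⟩ := Cov.two hE hcov hx.ne i0
  have hnt : Nontrivial ι := ⟨j0, i0, hj0⟩
  obtain ⟨i, j, hi, hj, hij, hcard, hfix⟩ := H76.RC.fifteen_of_plus h hF hd6 hQ hplus hx hO hts
  have hx5 := hx.pow i
  have hx3 := hx.pow j
  rw [hi] at hx5
  rw [hj] at hx3
  refine H957.RC.kill_fifteen h hE hF hd6 (hx.comm i j) hx5 hx3 (hx.ne j) (fun v h1 h2 => hfix v h1 h2) hcard fun w => ?_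
  obtain ⟨k, hk⟩ := hcov w
  rcases hij k with rfl | rfl
  · exact Or.inl hk
  · exact Or.inr hk

end Cfsg.Agent.H555.RC
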