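import Cfsg.Agent.H385.RC.Iso
import Cfsg.Agent.H686.SR.Dye
import Cfsg.Agent.H236.RC.Ident

/-!
# S3510, symplectic groups in characteristic two: semilinear isometries preserve a quadratic form (helper555)

* `Ev.exists_quad` : every element of the group of the environment `Ev B N` preserves (semilinearly) a quadratic form with
  polar form `B`;
* `Ev.quad_add` : the other quadratic forms preserved by `g` are `Q + B(d, ·)²` with `g d = d`.
-/

set_option autoImplicit false
set_option linter.unusedSectionVars false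

open Cfsg

namespace Cfsg.Agent.H555.RC

open Module QuadraticMap Cfsg.Agent.H385.RC Cfsg.Agent.H106.RC
open Cfsg.Agent.LieClassical.OrthCore Cfsg.Agent.ClassicalGeometry.OrthSemi

section trace

variable {F : Type*} [Field F] [Finite F] [Algebra (ZMod 2) F]

theorem trace_sigma (σ : F ≃+* F) (x : F) : Algebra.trace (ZMod 2) F (σ x) = Algebra.trace (ZMod 2) F x := by
  have hc : ∀ r : ZMod 2, σ (algebraMap (ZMod 2) F r) = algebraMap (ZMod 2) F r := by
    intro r
    have : (σ : F →+* F).comp (algebraMap (ZMod 2) F) = algebraMap (ZMod 2) F := Subsingleton.elim _ _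
    exact RingHom.congr_fun this r
  let e : F ≃ₐ[ZMod 2] F := AlgEquiv.ofRingEquiv (f := σ) hc
  exact Algebra.trace_eq_of_algEquiv e x

theorem trace_sq [CharP F 2] (x : F) : Algebra.trace (ZMod 2) F (x ^ 2) = Algebra.trace (ZMod 2) F x := by
  exact trace_sigma (frobeniusEquiv F 2) x

theorem exists_trace_ne {a : F} (ha : a ≠ 0) : ∃ b : F, Algebra.trace (ZMod 2) F (a * b) ≠ 0 := by
  have : Fact (Nat.Prime 2) := ⟨Nat.prime_two⟩
  have h1 : (Algebra.trace (ZMod 2) F) ≠ 0 := Algebra.trace_ne_zero _ _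
  obtain ⟨b, hb⟩ : ∃ b, Algebra.trace (ZMod 2) F b ≠ 0 := by
    by_contra hcon
    push Not at hcon
    exact h1 (LinearMap.ext hcon)
  exact ⟨a⁻¹ * b, by rwa [mul_inv_cancel_left₀ ha]⟩

end trace

section quad

variable {F V G : Type*} [Field F] [Finite F] [AddCommGroup V] [Module F V] [FiniteDimensional F V] [Group G]
  [DistribMulAction G V] {B : LinearMap.BilinForm F V} {N : Subgroup G}

theorem charP_two (h : Ev B N) : CharP F 2 := by
  refine CharTwo.of_one_ne_zero_of_two_eq_zero one_ne_zero h.two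

/-- every additive functional is a trace -/
theorem exists_functional (h : Ev B N) (R : AddSubgroup V) {c : V} (hc : c ∉ R) [Algebra (ZMod 2) F] :
    ∃ x : V, (∀ y ∈ R, Algebra.trace (ZMod 2) F (B x y) = 0) ∧ Algebra.trace (ZMod 2) F (B x c) ≠ 0 := by
  classical
  have h2 : Fact (Nat.Prime 2) := ⟨Nat.prime_two⟩
  have hchar := charP_two h
  let _ : Module (ZMod 2) V := Module.compHom V (algebraMap (ZMod 2) F)
  have : IsScalarTower (ZMod 2) F V := ⟨fun r a v => by
    rw [Algebra.smul_def, mul_smul]; rfl⟩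
  have hfinV : Finite V := Module.finite_of_finite F
  have : Module.Finite (ZMod 2) V := inferInstance
  let Bx : V → (V →+ ZMod 2) := fun x =>
    { toFun := fun y => Algebra.trace (ZMod 2) F (B x y)
      map_zero' := by rw [map_zero, map_zero]
      map_add' := fun y z => by rw [map_add, map_add] }
  let L0 : V →+ (V →ₗ[ZMod 2] ZMod 2) :=
    { toFun := fun x => (Bx x).toZModLinearMap 2
      map_zero' := by
        ext y
        change Algebra.trace (ZMod 2) F (B 0 y) = 0
        rw [map_zero, LinearMap.zero_apply, map_zero]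
      map_add' := fun x x' => by
        ext y
        change Algebra.trace (ZMod 2) F (B (x + x') y) = Algebra.trace (ZMod 2) F (B x y) + Algebra.trace (ZMod 2) F (B x' y)
        rw [map_add, LinearMap.add_apply, map_add] }
  let L : V →ₗ[ZMod 2] (V →ₗ[ZMod 2] ZMod 2) := L0.toZModLinearMap 2
  have hL : ∀ x y, L x y = Algebra.trace (ZMod 2) F (B x y) := fun x y => rfl
  have hinj : Function.Injective L := by
    rw [injective_iff_map_eq_zero]
    intro x hx
    refine h.nd x fun y => ?_
    by_contra hne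
    obtain ⟨b, hb⟩ := exists_trace_ne hne
    apply hb
    have h3 := hL x (b • y)
    rw [hx, LinearMap.zero_apply, map_smul, smul_eq_mul, mul_comm] at h3
    exact h3.symm
  have hsurj : Function.Surjective L :=
    (LinearMap.injective_iff_surjective_of_finrank_eq_finrank (Subspace.dual_finrank_eq).symm).1 hinj
  let R' : Submodule (ZMod 2) V := AddSubgroup.toZModSubmodule 2 R
  have hmem : c ∉ R' := hc
  obtain ⟨f, hf1, hf2⟩ := Submodule.exists_le_ker_of_notMem hmem
  obtain ⟨x, hx⟩ := hsurj f
  refine ⟨x, fun y hy => ?_, ?_⟩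
  · rw [← hL, hx]
    exact hf2 hy
  · rw [← hL, hx]
    exact hf1

/-- **Dye's theorem for semilinear isometries.** -/
theorem exists_quad (h : Ev B N) (g : G) {σ : F ≃+* F} (h1 : ∀ (a : F) (v : V), g • a • v = σ a • g • v)
    (h2 : ∀ u v, B (g • u) (g • v) = σ (B u v)) :
    ∃ Q : QuadraticForm F V, (∀ x y, polar Q x y = B x y) ∧ ∀ v, Q (g • v) = σ (Q v) := by
  have hchar := charP_two h
  let _ : Algebra (ZMod 2) F := ZMod.algebra F 2
  have htwo : (2 : F) = 0 := h.two
  obtain ⟨Q0, hQ0⟩ := H686.SR.Dye.exists_quad B h.alt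
  have hQadd : ∀ x y, Q0 (x + y) = Q0 x + Q0 y + B x y := fun x y => by rw [← hQ0, polar]; ring
  let δ : V → F := fun v => σ.symm (Q0 (g • v)) + Q0 v
  have hadd : ∀ x y, δ (x + y) = δ x + δ y := by
    intro x y
    change σ.symm (Q0 (g • (x + y))) + Q0 (x + y) = (σ.symm (Q0 (g • x)) + Q0 x) + (σ.symm (Q0 (g • y)) + Q0 y)
    rw [smul_add, hQadd, hQadd, h2, map_add, map_add, RingEquiv.symm_apply_apply]
    linear_combination (B x y) * htwo
  have hsmul : ∀ (a : F) x, δ (a • x) = a ^ 2 * δ x := by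
    intro a x
    change σ.symm (Q0 (g • a • x)) + Q0 (a • x) = a ^ 2 * (σ.symm (Q0 (g • x)) + Q0 x)
    rw [h1, QuadraticMap.map_smul, QuadraticMap.map_smul, smul_eq_mul, smul_eq_mul, map_mul, map_mul,
      RingEquiv.symm_apply_apply]
    ring
  let s : F ≃+* F := (frobeniusEquiv F 2).symm
  have hs : ∀ x, s x ^ 2 = x := fun x => frobeniusEquiv_symm_pow_p F 2 x
  have hinj2 : ∀ x y : F, x ^ 2 = y ^ 2 → x = y := by
    intro x y hxy
    have h4 : (x + y) ^ 2 = 0 := by
      rw [CharTwo.add_sq, hxy]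
      exact CharTwo.add_self_eq_zero _
    exact CharTwo.add_eq_zero.1 (pow_eq_zero_iff (two_ne_zero) |>.1 h4)
  have hs' : ∀ x, s (x ^ 2) = x := fun x => hinj2 _ _ (hs _)
  let lam : V →ₗ[F] F :=
    { toFun := fun x => s (δ x)
      map_add' := fun x y => by rw [hadd, map_add]
      map_smul' := fun a x => by
        rw [hsmul, map_mul, hs', RingHom.id_apply, smul_eq_mul] }
  have hlam : ∀ x, lam x ^ 2 = δ x := fun x => hs _
  have hinj : Function.Injective B := by
    rw [injective_iff_map_eq_zero]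
    intro x hx
    exact h.nd x fun y => by rw [hx]; rfl
  have hsurj : Function.Surjective B :=
    (LinearMap.injective_iff_surjective_of_finrank_eq_finrank (Subspace.dual_finrank_eq).symm).1 hinj
  obtain ⟨c, hc⟩ := hsurj lam
  have hc' : ∀ x, B c x = lam x := fun x => by rw [hc]
  have hform : ∀ u v, σ (B (g⁻¹ • u) v) = B u (g • v) := h.form_inv h2
  obtain ⟨a, ha⟩ : ∃ a, g⁻¹ • a + a = c := by
    by_contra hcon
    let R : AddSubgroup V := AddMonoidHom.range
      ((DistribMulAction.toAddMonoidHom V g⁻¹) + AddMonoidHom.id V)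
    have hmem : c ∉ R := by
      rintro ⟨a, ha⟩
      exact hcon ⟨a, ha⟩
    obtain ⟨x, hx1, hx2⟩ := exists_functional h R hmem
    apply hx2
    have h3 : g • x + x = 0 := by
      refine h.nd _ fun y => ?_
      by_contra hne
      obtain ⟨b, hb⟩ := exists_trace_ne hne
      apply hb
      have h4 := hx1 (g⁻¹ • (b • y) + b • y) ⟨b • y, rfl⟩
      rw [map_add, map_add] at h4
      have h5 : Algebra.trace (ZMod 2) F (B x (g⁻¹ • b • y)) = Algebra.trace (ZMod 2) F (B (g • x) (b • y)) := by
        rw [← trace_sigma σ (B x (g⁻¹ • b • y)), ← h2, smul_inv_smul]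
      rw [h5, ← map_add, ← LinearMap.add_apply, ← map_add, map_smul, smul_eq_mul, mul_comm] at h4
      exact h4
    have h5 : g • x = x := by
      rw [← sub_eq_zero, sub_eq_add_neg, h.vneg]
      exact h3
    rw [h.symm x c, hc', ← trace_sq, hlam]
    change Algebra.trace (ZMod 2) F (σ.symm (Q0 (g • x)) + Q0 x) = 0
    rw [h5, map_add, trace_sigma, ← two_mul]
    have : (2 : ZMod 2) = 0 := by decide
    rw [this, zero_mul]
  let Q : QuadraticForm F V := Q0 + (QuadraticMap.sq (R := F)).comp (B a)
  have hQ : ∀ x, Q x = Q0 x + B a x * B a x := fun x => rfl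
  refine ⟨Q, fun x y => ?_, fun x => ?_⟩
  · rw [polar, hQ, hQ, hQ, hQadd, map_add]
    linear_combination (B a x * B a y) * htwo
  · have h3 : lam x ^ 2 = σ.symm (Q0 (g • x)) + Q0 x := hlam x
    have h3' : σ (lam x) ^ 2 = Q0 (g • x) + σ (Q0 x) := by
      rw [← map_pow, h3, map_add, RingEquiv.apply_symm_apply]
    rw [hQ, hQ, map_add, map_mul]
    have h4 : B a (g • x) = σ (B (g⁻¹ • a) x) := (hform a x).symm
    have h5 : B a x = lam x + B (g⁻¹ • a) x := by
      rw [← hc', ← ha, map_add, LinearMap.add_apply]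
      linear_combination -(B (g⁻¹ • a) x) * htwo
    rw [h4, h5, map_add]
    linear_combination -h3' - (σ (Q0 x) + σ (lam x) * σ (B (g⁻¹ • a) x)) * htwo

/-- the form `Q + B(d, ·)²` -/
noncomputable def qadd (B : LinearMap.BilinForm F V) (Q : QuadraticForm F V) (d : V) : QuadraticForm F V :=
  Q + (QuadraticMap.sq (R := F)).comp (B d)

theorem qadd_apply (Q : QuadraticForm F V) (d v : V) : qadd B Q d v = Q v + B d v * B d v := rfl

theorem polar_qadd (h : Ev B N) {Q : QuadraticForm F V} (hQ : ∀ x y, polar Q x y = B x y) (d x y : V) :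
    polar (qadd B Q d) x y = B x y := by
  rw [← hQ x y, polar, polar, qadd_apply, qadd_apply, qadd_apply, (B d).map_add]
  linear_combination (B d x * B d y) * h.two

theorem qadd_smul {Q : QuadraticForm F V} {g : G} {σ : F ≃+* F}
    (h2 : ∀ u v, B (g • u) (g • v) = σ (B u v)) (h3 : ∀ v, Q (g • v) = σ (Q v)) {d : V} (hd : g • d = d) (v : V) :
    qadd B Q d (g • v) = σ (qadd B Q d v) := by
  rw [qadd_apply, qadd_apply, h3, map_add, map_mul, ← h2, hd]

end quad

end Cfsg.Agent.H555.RC
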