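import Cfsg.Agent.H555.RC.Om
import Cfsg.Agent.H385.RC.Dec

/-!
# S3510, symplectic groups in characteristic two: the reduction to `Sp₆(2)` (helper555)

* `card_zeros` : a quadratic form on `F₂⁶` with a totally singular subspace of dimension three has `36` zeros;
* `dead_even_red` : the whole row `dim ≥ 6` from the bad case of `Sp₆(2)`.
-/

set_option autoImplicit false
set_option linter.unusedSectionVars false

open Cfsg

namespace Cfsg.Agent.H555.RC

open Module QuadraticMap MulAction Cfsg.Agent.H385.RC Cfsg.Agent.H106.RC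
open Cfsg.Agent.LieClassical.OrthCore

section two

variable {F V G : Type} [Field F] [Finite F] [AddCommGroup V] [Module F V] [FiniteDimensional F V] [Group G] [Finite G]
  [DistribMulAction G V] {B : LinearMap.BilinForm F V} {N : Subgroup G}

theorem zero_or_one (hF : Nat.card F = 2) (a : F) : a = 0 ∨ a = 1 := by
  classical
  let _ := Fintype.ofFinite F
  by_contra hcon
  push Not at hcon
  have h1 : ({0, 1, a} : Finset F).card = 3 := by
    rw [Finset.card_insert_of_notMem, Finset.card_pair hcon.2.symm]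
    simp [hcon.1.symm]
  have h2 := Finset.card_le_univ ({0, 1, a} : Finset F)
  rw [← Nat.card_eq_fintype_card, hF, h1] at h2
  omega

theorem sigma_two (hF : Nat.card F = 2) (σ : F ≃+* F) (a : F) : σ a = a := by
  rcases zero_or_one hF a with rfl | rfl
  · exact map_zero σ
  · exact map_one σ

/-- the sign of an element of `F₂` -/
noncomputable def sg (a : F) : ℤ := by
  classical exact if a = 0 then 1 else -1

theorem sg_zero : sg (0 : F) = 1 := by
  classical
  simp [sg]

theorem sg_one : sg (1 : F) = -1 := by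
  classical
  simp [sg]

theorem sg_add (h2 : (2 : F) = 0) (hF : Nat.card F = 2) (a b : F) : sg (a + b) = sg a * sg b := by
  rcases zero_or_one hF a with rfl | rfl <;> rcases zero_or_one hF b with rfl | rfl
  · simp [sg_zero]
  · simp [sg_zero]
  · simp [sg_zero]
  · have : (1 : F) + 1 = 0 := by rw [← h2]; norm_num
    rw [this, sg_zero, sg_one]; norm_num

/-- **The number of zeros of a quadratic form of plus type on `F₂⁶`.** -/
theorem card_zeros (h : Ev B N) (hF : Nat.card F = 2) (hdim : finrank F V = 6) {Q : QuadraticForm F V}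
    (hQ : ∀ u v, polar Q u v = B u v) {U : Submodule F V} (hU : ∀ v ∈ U, Q v = 0) (hU3 : finrank F U = 3) :
    Nat.card {v : V // Q v = 0} = 36 := by
  classical
  have hfV : Finite V := Module.finite_of_finite F
  let _ := Fintype.ofFinite V
  have hQadd : ∀ x y, Q (x + y) = Q x + Q y + B x y := fun x y => by rw [← hQ, polar]; ring
  have hcV : Fintype.card V = 64 := by
    rw [← Nat.card_eq_fintype_card, Module.natCard_eq_pow_finrank (K := F), hF, hdim]; norm_num
  have hcU : Fintype.card U = 8 := by
    rw [← Nat.card_eq_fintype_card, Module.natCard_eq_pow_finrank (K := F), hF, hU3]; norm_num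
  have hUB : ∀ u ∈ U, ∀ v ∈ U, B u v = 0 := by
    intro u hu v hv
    have := hQadd u v
    rw [hU _ (U.add_mem hu hv), hU u hu, hU v hv] at this
    linear_combination -this
  -- `U` is its own orthogonal
  have hle : U ≤ B.orthogonal U := fun u hu => h.mem_orth.2 fun v hv => hUB u hu v hv
  have heq : U = B.orthogonal U := by
    apply Submodule.eq_of_le_of_finrank_eq hle
    have := h.finrank_add U
    omega
  -- inner sums
  have hin : ∀ v : V, ∑ u : U, sg (Q (v + u)) = if v ∈ U then 8 else 0 := by
    intro v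
    split_ifs with hv
    · have : ∀ u : U, sg (Q (v + u)) = 1 := fun u => by rw [hU _ (U.add_mem hv u.2), sg_zero]
      rw [Finset.sum_congr rfl fun u _ => this u, Finset.sum_const, Finset.card_univ, hcU]
      norm_num
    · obtain ⟨u0, hu0, hne⟩ : ∃ u0 ∈ U, B v u0 ≠ 0 := by
        by_contra hcon
        push Not at hcon
        apply hv
        rw [heq]
        exact h.mem_orth.2 hcon
      have h1 : B v u0 = 1 := (zero_or_one hF _).resolve_left hne
      have h2 : ∑ u : U, sg (Q (v + u)) = ∑ u : U, sg (Q (v + ((u + ⟨u0, hu0⟩ : U) : V))) :=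
        (Equiv.sum_comp (Equiv.addRight (⟨u0, hu0⟩ : U)) (fun u : U => sg (Q (v + (u : V))))).symm
      have h3 : ∀ u : U, sg (Q (v + ((u + ⟨u0, hu0⟩ : U) : V))) = - sg (Q (v + u)) := by
        intro u
        have h4 : Q (v + ((u + ⟨u0, hu0⟩ : U) : V)) = Q (v + u) + 1 := by
          have h5 : v + ((u + ⟨u0, hu0⟩ : U) : V) = (v + u) + u0 := by
            rw [Submodule.coe_add, add_assoc]
          rw [h5, hQadd (v + u) u0, hU u0 hu0, B.map_add, LinearMap.add_apply, h1, hUB u u.2 u0 hu0]
          ring
        rw [h4, sg_add h.two hF, sg_one]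
        ring
      have h6 : ∑ u : U, sg (Q (v + u)) = - ∑ u : U, sg (Q (v + u)) := by
        conv_lhs => rw [h2]
        rw [← Finset.sum_neg_distrib]
        exact Finset.sum_congr rfl fun u _ => h3 u
      omega
  have htot : ∑ v : V, ∑ u : U, sg (Q (v + u)) = 64 := by
    rw [Finset.sum_congr rfl fun v _ => hin v, Finset.sum_ite, Finset.sum_const_zero, add_zero, Finset.sum_const]
    have : (Finset.univ.filter fun v : V => v ∈ U).card = 8 := by
      rw [← hcU, Fintype.card_subtype]
    rw [this]; norm_num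
  have htot2 : ∑ v : V, ∑ u : U, sg (Q (v + u)) = 8 * ∑ v : V, sg (Q v) := by
    rw [Finset.sum_comm]
    have : ∀ u : U, ∑ v : V, sg (Q (v + u)) = ∑ v : V, sg (Q v) := fun u =>
      Equiv.sum_comp (Equiv.addRight (u : V)) fun v => sg (Q v)
    rw [Finset.sum_congr rfl fun u _ => this u, Finset.sum_const, Finset.card_univ, hcU]
    simp
  have hs : ∑ v : V, sg (Q v) = 8 := by omega
  have hz : ∑ v : V, sg (Q v) = ((Finset.univ.filter fun v : V => Q v = 0).card : ℤ) -
      (Finset.univ.filter fun v : V => ¬ Q v = 0).card := by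
    have : ∀ v : V, sg (Q v) = if Q v = 0 then 1 else -1 := fun v => by
      split_ifs with h1
      · rw [h1, sg_zero]
      · rw [(zero_or_one hF _).resolve_left h1, sg_one]
    rw [Finset.sum_congr rfl fun v _ => this v, Finset.sum_ite, Finset.sum_const, Finset.sum_const]
    simp
    ring
  have hc := Finset.card_filter_add_card_filter_not (s := (Finset.univ : Finset V)) (fun v => Q v = 0)
  rw [Finset.card_univ, hcV] at hc
  rw [Nat.card_eq_fintype_card, Fintype.card_subtype]
  omega

/-- adding a nonsingular vector changes the type -/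
theorem not_plus_qadd (h : Ev B N) (hF : Nat.card F = 2) (hdim : finrank F V = 6) {Q : QuadraticForm F V}
    (hQ : ∀ u v, polar Q u v = B u v) (hplus : ∃ U : Submodule F V, (∀ v ∈ U, Q v = 0) ∧ finrank F U = 3) {d : V}
    (hd : Q d ≠ 0) : ¬ ∃ U : Submodule F V, (∀ v ∈ U, qadd B Q d v = 0) ∧ finrank F U = 3 := by
  classical
  rintro ⟨U', hU', hU3'⟩
  obtain ⟨U, hU, hU3⟩ := hplus
  have hfV : Finite V := Module.finite_of_finite F
  let _ := Fintype.ofFinite V
  have h1 := card_zeros h hF hdim hQ hU hU3
  have h2 := card_zeros h hF hdim (polar_qadd h hQ d) hU' hU3'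
  have hd1 : Q d = 1 := (zero_or_one hF _).resolve_left hd
  have hQadd : ∀ x y, Q (x + y) = Q x + Q y + B x y := fun x y => by rw [← hQ, polar]; ring
  have hcV : Fintype.card V = 64 := by
    rw [← Nat.card_eq_fintype_card, Module.natCard_eq_pow_finrank (K := F), hF, hdim]; norm_num
  have h11 : (1 : F) + 1 = 0 := by
    have := h.two
    rw [← this]; norm_num
  have key : ∀ v, qadd B Q d v = Q (v + d) + 1 := by
    intro v
    rw [qadd_apply, hQadd, hd1, h.symm v d]
    have h3 : B d v * B d v = B d v := by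
      rcases zero_or_one hF (B d v) with h4 | h4 <;> rw [h4] <;> ring
    rw [h3]
    linear_combination -h11
  have h3 : Nat.card {v : V // qadd B Q d v = 0} = Nat.card {v : V // ¬ Q v = 0} := by
    refine Nat.card_congr ((Equiv.addRight d).subtypeEquiv fun v => ?_)
    change qadd B Q d v = 0 ↔ ¬ Q (v + d) = 0
    rw [key]
    rcases zero_or_one hF (Q (v + d)) with h4 | h4 <;> rw [h4]
    · simp
    · simp [h11]
  rw [h3] at h2
  have hc := Finset.card_filter_add_card_filter_not (s := (Finset.univ : Finset V)) (fun v => Q v = 0)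
  rw [Finset.card_univ, hcV] at hc
  rw [Nat.card_eq_fintype_card, Fintype.card_subtype] at h1 h2
  omega

/-- **Reduction of the row `dim ≥ 6`, characteristic two, to the bad case of `Sp₆(2)`.** -/
theorem dead_even_red (h : Ev B N) {Ω : Type} [MulAction G Ω] [Nonempty Ω] (hE : Env G Ω N) {S : Type} [Group S] [Finite S]
    (hIH : IH (Nat.card S)) (eS : N ≃* S) {ι : Type} [Finite ι] {x : ι → G} {r : ι → ℕ} (hx : PF x r) (hcov : Cov Ω x)
    (hdim : 6 ≤ finrank F V)
    (hsix : Nat.card F = 2 → finrank F V = 6 → ∀ Q : QuadraticForm F V, (∀ u v, polar Q u v = B u v) →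
      (∃ U : Submodule F V, (∀ v ∈ U, Q v = 0) ∧ finrank F U = 3) → (∀ i v, Q (x i • v) = Q v) →
      (∀ v, (∀ i, x i • v = v) → Q v = 0) → False) : False := by
  obtain ⟨g, -, hg⟩ := exists_gen x r hx.prime hx.inj hx.pow hx.comm
  obtain ⟨σ, h1, h2⟩ := h.semi g
  obtain ⟨Q, hQ, hgQ⟩ := exists_quad h g h1 h2
  have hgQS : g ∈ QS G Q := ⟨σ, h1, hgQ⟩
  have hO : ∀ i, x i ∈ QS G Q := fun i => (Subgroup.zpowers_le.2 hgQS) (hg i)
  by_cases hbad : Nat.card F = 2 ∧ finrank F V = 6 ∧ ∃ U : Submodule F V, (∀ v ∈ U, Q v = 0) ∧ finrank F U = 3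
  · obtain ⟨hF, hd6, hplus⟩ := hbad
    have hlin : ∀ i v, Q (x i • v) = Q v := by
      intro i v
      obtain ⟨τ, -, h4⟩ := hO i
      rw [h4, sigma_two hF]
    refine hsix hF hd6 Q hQ hplus hlin fun v hv => ?_
    by_contra hne
    have hO' : ∀ i, x i ∈ QS G (qadd B Q v) := by
      intro i
      obtain ⟨τ, h3, h4⟩ := h.semi (x i)
      refine ⟨τ, h3, fun w => ?_⟩
      exact qadd_smul h4 (fun w => by rw [hlin, sigma_two hF]) (hv i) w
    exact dead_quad h hE hIH eS hx hcov hdim (polar_qadd h hQ v) hO' fun hb =>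
      not_plus_qadd h hF hd6 hQ hplus hne hb.2.2
  · exact dead_quad h hE hIH eS hx hcov hdim hQ hO hbad

end two

end Cfsg.Agent.H555.RC
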